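import Groth.Agent.EtaleBase.Limit.StrictCriterion
import Groth.Agent.EtaleBase.ConnectedFibresFlat
import Groth.Agent.HensPair.IndEtale
import Groth.Agent.EtaleDeep.IndEt.Etale
import Mathlib.RingTheory.Etale.Weakly

/-!
The degree zero base change map for flat morphisms whose strict localisations have connected
geometric fibres.
-/

set_option autoImplicit false

universe u

open CategoryTheory CategoryTheory.Limits CategoryTheory.Abelian AlgebraicGeometry Opposite
open scoped TensorProduct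

namespace Groth.EtaleBase.BCZero

open EtLimit EtLimit.Resn

lemma addEquiv₀_mk₀ {Y : Scheme.{u}} {F G : EtCoh.Ab Y} (z : F ⟶ G) :
    (Ext.addEquiv₀ (X := F) (Y := G)) (Ext.mk₀ z) = z :=
  Ext.addEquiv₀.apply_symm_apply z

/-- Pullback of a degree zero class. -/
lemma Hpull_mk₀ {X Y : Scheme.{u}} (m : X ⟶ Y) [PreservesFiniteLimits (EtCoh.pull m)] {F : EtCoh.Ab Y}
    (z : EtCoh.const Y ℤ ⟶ F) :
    EtCore.Hpull m F 0 (Ext.mk₀ z) = Ext.mk₀ ((EtCore.pullConst m ℤ).inv ≫ (EtCoh.pull m).map z) := by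
  show (Ext.mk₀ (EtCore.pullConst m ℤ).inv).comp ((Ext.mk₀ z).mapExactFunctor (EtCoh.pull m))
    (zero_add 0) = _
  rw [Ext.mapExactFunctor_mk₀, Ext.mk₀_comp_mk₀]

/-- Relative pullback of global sections is bijective as soon as the unit is. -/
theorem HpullVia_zero_bijective {X Y Z : Scheme.{u}} (m : X ⟶ Y) (t : Y ⟶ Z) (t₀ : X ⟶ Z) (w : m ≫ t = t₀)
    [PreservesFiniteLimits (EtCoh.pull m)] (G : EtCoh.Ab Z)
    (hu : Function.Bijective (ConnFib.un m ((EtCoh.pull t).obj G) (EtCoh.top Y))) :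
    Function.Bijective (EtCore.HpullVia m t t₀ w G 0) := by
  let A := (EtCoh.pull t).obj G
  let M := (EtCoh.pull t₀).obj G
  let ν : (EtCoh.pull m).obj A ⟶ M := (((EtCore.pullComp m t).symm ≪≫ EtCore.pullCongr w).app G).hom
  haveI : IsIso ν := inferInstanceAs
    (IsIso (((EtCore.pullComp m t).symm ≪≫ EtCore.pullCongr w).app G).hom)
  have hν : Function.Bijective (ν.hom.app (op ((EtCoh.bc m).obj (EtCoh.top Y)))) :=
    (ConcreteCategory.isIso_iff_bijective _).1
      (inferInstanceAs (IsIso (((sheafToPresheaf _ _).map ν).app _)))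
  have hι : Function.Bijective (M.obj.map (EtCore.bcTopIso m).inv.op) :=
    (ConcreteCategory.isIso_iff_bijective _).1 inferInstance
  let a : EtCoh.H Y A 0 → A.obj.obj (op (EtCoh.top Y)) := fun x => ev A (Ext.addEquiv₀ x)
  let b : EtCoh.H X M 0 → M.obj.obj (op (EtCoh.top X)) := fun x => ev M (Ext.addEquiv₀ x)
  have ha : Function.Bijective a := (ev A).bijective.comp Ext.addEquiv₀.bijective
  have hb : Function.Bijective b := (ev M).bijective.comp Ext.addEquiv₀.bijective
  have key : ∀ x, b (EtCore.HpullVia m t t₀ w G 0 x) = M.obj.map (EtCore.bcTopIso m).inv.op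
      (ν.hom.app (op ((EtCoh.bc m).obj (EtCoh.top Y)))
        (ConnFib.un m A (EtCoh.top Y) (a x))) := fun x => by
    obtain ⟨z, rfl⟩ : ∃ z, Ext.mk₀ z = x := ⟨Ext.addEquiv₀ x, Ext.addEquiv₀.symm_apply_apply x⟩
    have e1 : EtCore.HpullVia m t t₀ w G 0 (Ext.mk₀ z) =
        Ext.mk₀ ((EtCore.pullConst m ℤ).inv ≫ (EtCoh.pull m).map z ≫ ν) := by
      refine (congrArg (fun y => Ext.comp y (Ext.mk₀ ν) (add_zero 0)) (Hpull_mk₀ m z)).trans ?_
      rw [Ext.mk₀_comp_mk₀, Category.assoc]
    have e2 : b (EtCore.HpullVia m t t₀ w G 0 (Ext.mk₀ z)) =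
        ev M ((EtCore.pullConst m ℤ).inv ≫ (EtCoh.pull m).map z ≫ ν) :=
      (congrArg b e1).trans (congrArg (ev M) (addEquiv₀_mk₀ _))
    have e3 : a (Ext.mk₀ z) = ev A z := congrArg (ev A) (addEquiv₀_mk₀ z)
    refine e2.trans ((ev_pull m z ν).trans ?_)
    rw [e3, Adjunction.homEquiv_unit]
    rfl
  refine (Function.Bijective.of_comp_iff' hb _).1 ?_
  rw [show (b ∘ EtCore.HpullVia m t t₀ w G 0) = _ from funext key]
  exact hι.comp (hν.comp (hu.comp ha))

/-- A compatible map of strict henselizations of a flat local homomorphism is flat. -/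
theorem flat_map_strictHens {A B : Type u} [CommRing A] [IsLocalRing A] [CommRing B] [IsLocalRing B]
    (φ : A →+* B) (hφ : φ.Flat)
    (RS : Type u) [CommRing RS] [IsLocalRing RS] [Algebra A RS] [IsLocalHom (algebraMap A RS)]
    [Hensel.IsStrictHenselization A RS]
    (RX : Type u) [CommRing RX] [IsLocalRing RX] [Algebra B RX] [IsLocalHom (algebraMap B RX)]
    [Hensel.IsStrictHenselization B RX]
    (ψ : RS →+* RX) (hψ : ψ.comp (algebraMap A RS) = (algebraMap B RX).comp φ) : ψ.Flat := by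
  obtain ⟨MS⟩ := Groth.Hensel1.hensModel_of_isStrictHenselization (R := A) (S := RS)
  haveI := Groth.EtaleDeep.IndEt.weaklyEtale (Groth.HensPair.isIndEtale_of_hensModel MS)
  obtain ⟨MX⟩ := Groth.Hensel1.hensModel_of_isStrictHenselization (R := B) (S := RX)
  haveI := Groth.EtaleDeep.IndEt.weaklyEtale (Groth.HensPair.isIndEtale_of_hensModel MX)
  letI : Algebra A B := φ.toAlgebra
  haveI : Module.Flat A B := hφ
  letI : Algebra A RX := ((algebraMap B RX).comp φ).toAlgebra
  haveI : IsScalarTower A B RX := IsScalarTower.of_algebraMap_eq' rfl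
  letI : Algebra RS RX := ψ.toAlgebra
  haveI : IsScalarTower A RS RX := IsScalarTower.of_algebraMap_eq' hψ.symm
  haveI : Module.Flat A RX := Module.Flat.trans A B RX
  have h1 : (algebraMap RS (RS ⊗[A] RX)).Flat := RingHom.flat_algebraMap_iff.2 inferInstance
  have h2 := RingHom.Flat.mapOfCompatibleSMul (R := A) (S := RS) RS RX
    (Algebra.WeaklyEtale.flat_lmul' A RS)
  have h3 : ((Algebra.TensorProduct.lid RS RX).toRingEquiv.toRingHom).Flat :=
    RingHom.Flat.of_bijective (Algebra.TensorProduct.lid RS RX).bijective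
  have e : ψ = (Algebra.TensorProduct.lid RS RX).toRingEquiv.toRingHom.comp
      ((Algebra.TensorProduct.mapOfCompatibleSMul RS A RS RS RX).toRingHom.comp
        (algebraMap RS (RS ⊗[A] RX))) := RingHom.ext fun r => by
    show ψ r = Algebra.TensorProduct.lid RS RX
      (Algebra.TensorProduct.mapOfCompatibleSMul RS A RS RS RX (r ⊗ₜ[A] (1 : RX)))
    rw [Algebra.TensorProduct.mapOfCompatibleSMul_tmul, Algebra.TensorProduct.lid_tmul,
      Algebra.smul_def, mul_one]
    rfl
  rw [e]
  exact (h1.comp h2).comp h3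

/-- The degree zero base change criterion. -/
theorem isIso_baseChange0_of_bijective {X S Y T : Scheme.{u}} (f : X ⟶ S) (g : T ⟶ S)
    [QuasiCompact g] [QuasiSeparated g] (h : Y ⟶ X) (e : Y ⟶ T) (c : IsPullback e h g f) (F : EtCoh.Ab T)
    (H : ∀ (x : X) (RS : Type u) [CommRing RS] [IsLocalRing RS] [Algebra (S.presheaf.stalk (f.base x)) RS]
      [IsLocalHom (algebraMap (S.presheaf.stalk (f.base x)) RS)] [Hensel.IsStrictHenselization (S.presheaf.stalk (f.base x)) RS]
      (RX : Type u) [CommRing RX] [IsLocalRing RX] [Algebra (X.presheaf.stalk x) RX]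
      [IsLocalHom (algebraMap (X.presheaf.stalk x) RX)] [Hensel.IsStrictHenselization (X.presheaf.stalk x) RX]
      (ψ : RS →+* RX) [IsLocalHom ψ],
      ψ.comp (algebraMap (S.presheaf.stalk (f.base x)) RS) = (algebraMap (X.presheaf.stalk x) RX).comp (f.stalkMap x).hom →
      ∀ (PS PX : Scheme.{u}) (aS : PS ⟶ T) (bS : PS ⟶ Spec (CommRingCat.of RS))
        (bX : PX ⟶ Spec (CommRingCat.of RX)) (m : PX ⟶ PS),
        IsPullback m bX bS (Spec.map (CommRingCat.ofHom ψ)) →
        Function.Bijective (ConnFib.un m ((EtCoh.pull aS).obj F) (EtCoh.top PS))) :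
    IsIso (EtCoh.baseChange0 g f h e c.w F) := by
  haveI : PreservesFiniteLimits (EtCoh.pull e) := pull_preservesFiniteLimits e
  haveI : IsIso (EtBC.bcQ g f h e c.w 0 F) := by
    refine isIso_bcQ_of_bijective_HpullVia f g h e c F 0 ?_
    intro x RS _ _ _ _ _ RX _ _ _ _ _ ψ _ hψ PS PX aS bS hS aX bX hX m w hmb _
    have hν := specOf_compat f x RS RX ψ hψ
    have sq : IsPullback bX m (Spec.map (CommRingCat.ofHom ψ)) bS := by
      refine IsPullback.of_bot ?_ hmb.symm hS.flip
      rw [w, hν]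
      exact hX.flip
    exact HpullVia_zero_bijective m aS aX w F (H x RS RX ψ hψ PS PX aS bS bX m sq.flip)
  haveI : PreservesLimits (EtCoh.push g) := (EtCoh.pullPushAdj g).rightAdjoint_preservesLimits
  haveI : PreservesLimits (EtCoh.push h) := (EtCoh.pullPushAdj h).rightAdjoint_preservesLimits
  have hc := EtBC.bcQ_zero_compat g f h e c.w F
  haveI : IsIso ((EtCoh.push g).toRightDerivedZero.app F) := inferInstance
  haveI : IsIso ((EtCoh.push h).toRightDerivedZero.app ((EtCoh.pull e).obj F)) := inferInstance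
  exact IsIso.of_isIso_fac_right (h := (EtCoh.pull f).map ((EtCoh.push g).toRightDerivedZero.app F) ≫
    EtBC.bcQ g f h e c.w 0 F) hc.symm

/-- Flat morphisms whose strict localisations have connected geometric fibres satisfy base change
in degree zero. -/
theorem isIso_baseChange0_of_connected {X S Y T : Scheme.{u}} (f : X ⟶ S) [Flat f] (g : T ⟶ S)
    [QuasiCompact g] [QuasiSeparated g] (h : Y ⟶ X) (e : Y ⟶ T) (c : IsPullback e h g f) (F : EtCoh.Ab T)
    (hconn : ∀ (x : X) (RS : Type u) [CommRing RS] [IsLocalRing RS] [Algebra (S.presheaf.stalk (f.base x)) RS]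
      [IsLocalHom (algebraMap (S.presheaf.stalk (f.base x)) RS)]
      [Hensel.IsStrictHenselization (S.presheaf.stalk (f.base x)) RS]
      (RX : Type u) [CommRing RX] [IsLocalRing RX] [Algebra (X.presheaf.stalk x) RX]
      [IsLocalHom (algebraMap (X.presheaf.stalk x) RX)] [Hensel.IsStrictHenselization (X.presheaf.stalk x) RX]
      (ψ : RS →+* RX) [IsLocalHom ψ],
      ψ.comp (algebraMap (S.presheaf.stalk (f.base x)) RS) = (algebraMap (X.presheaf.stalk x) RX).comp (f.stalkMap x).hom →
      ∀ (Ω : Type u) [Field Ω] [IsAlgClosed Ω] (η : Spec (CommRingCat.of Ω) ⟶ Spec (CommRingCat.of RS)),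
        ConnectedSpace ↥(pullback (Spec.map (CommRingCat.ofHom ψ)) η)) :
    IsIso (EtCoh.baseChange0 g f h e c.w F) := by
  refine isIso_baseChange0_of_bijective f g h e c F ?_
  intro x RS _ _ _ _ _ RX _ _ _ _ _ ψ _ hψ PS PX aS bS bX m sq
  have hflat : (CommRingCat.ofHom ψ).hom.Flat :=
    flat_map_strictHens (f.stalkMap x).hom (Flat.stalkMap f x) RS RX ψ hψ
  haveI : Flat (Spec.map (CommRingCat.ofHom ψ)) := by
    rw [HasRingHomProperty.Spec_iff (P := @Flat)]
    exact hflat
  haveI : Flat m := MorphismProperty.of_isPullback (P := @Flat) sq.flip inferInstance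
  haveI : QuasiCompact m := MorphismProperty.of_isPullback (P := @QuasiCompact) sq.flip inferInstance
  refine ConnFib.un_top_bijective_of_flat m (fun Ω _ _ s => ?_) _
  let s' := s ≫ bS
  let ι : pullback m s ≅ pullback (Spec.map (CommRingCat.ofHom ψ)) s' :=
    ((IsPullback.of_hasPullback m s).paste_horiz sq.flip).isoPullback.trans (Iso.refl _)
  haveI := hconn x RS RX ψ hψ Ω s'
  exact ι.hom.homeomorph.symm.surjective.connectedSpace ι.hom.homeomorph.symm.continuous

end Groth.EtaleBase.BCZero
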