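import Groth.Agent.EtaleBase.BCZero.Model
import Groth.Agent.HensPair.IndEtale
import Groth.Agent.HensPair.HenselFibresConnected
import Groth.Agent.EtaleDeep.IndEt.Etale
import Groth.Agent.FlatMor2.WeaklyEtaleStalk
import Mathlib.RingTheory.Flat.EquationalCriterion
import Mathlib.RingTheory.Etale.Weakly

/-!
Fibres of maps of strict henselisations induced by flat finitely presented algebras with geometrically
reduced fibres are geometrically connected.
-/

set_option autoImplicit false
set_option linter.style.haveILetI false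

universe u

open TensorProduct IsLocalRing Polynomial

namespace Groth.EtaleBase.BCZero

/-- A map out of a weakly étale algebra into a flat one is flat. -/
theorem flat_of_weaklyEtale (R S N : Type u) [CommRing R] [CommRing S] [CommRing N] [Algebra R S]
    [Algebra R N] [Algebra S N] [IsScalarTower R S N] [Algebra.WeaklyEtale R S] [Module.Flat R N] :
    Module.Flat S N := by
  have h1 : (algebraMap S (S ⊗[R] N)).Flat := RingHom.flat_algebraMap_iff.2 inferInstance
  have h2 := RingHom.Flat.mapOfCompatibleSMul (R := R) (S := S) S N (Algebra.WeaklyEtale.flat_lmul' R S)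
  have h3 : ((Algebra.TensorProduct.lid S N).toRingEquiv.toRingHom).Flat :=
    RingHom.Flat.of_bijective (Algebra.TensorProduct.lid S N).bijective
  have e : algebraMap S N = (Algebra.TensorProduct.lid S N).toRingEquiv.toRingHom.comp
      ((Algebra.TensorProduct.mapOfCompatibleSMul S R S S N).toRingHom.comp
        (algebraMap S (S ⊗[R] N))) := RingHom.ext fun r => by
    show algebraMap S N r = Algebra.TensorProduct.lid S N
      (Algebra.TensorProduct.mapOfCompatibleSMul S R S S N (r ⊗ₜ[R] (1 : N)))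
    rw [Algebra.TensorProduct.mapOfCompatibleSMul_tmul, Algebra.TensorProduct.lid_tmul,
      Algebra.smul_def, mul_one]
  rw [← RingHom.flat_algebraMap_iff, e]
  exact (h1.comp h2).comp h3

variable {A B Bq RS RX : Type u} [CommRing A] [CommRing B] [Algebra A B]
  [CommRing Bq] [IsLocalRing Bq] [Algebra B Bq] [Algebra A Bq] [IsScalarTower A B Bq]
  [CommRing RS] [IsLocalRing RS] [Algebra A RS]
  [CommRing RX] [IsLocalRing RX] [Algebra RS RX] [Algebra A RX] [IsScalarTower A RS RX]
  [Algebra Bq RX] [IsScalarTower A Bq RX]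

set_option synthInstance.maxHeartbeats 200000 in
set_option maxHeartbeats 1000000 in
/-- Idempotents over a field which is algebraic over the image. -/
theorem idem_field [Algebra.FinitePresentation A B] [Module.Flat A B]
    (hB : ∀ (K : Type u) [Field K] [Algebra A K], IsReduced (B ⊗[A] K))
    (M : Submonoid B) [IsLocalization M Bq]
    [IsLocalHom (algebraMap Bq RX)] [Hensel.IsStrictHenselization Bq RX]
    [Algebra.WeaklyEtale A RS] [Module.Flat RS RX] [IsLocalHom (algebraMap RS RX)]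
    [HenselianLocalRing RS] [IsSepClosed (ResidueField RS)]
    (L : Type u) [Field L] [Algebra RS L]
    (hL : ∀ l : L, ∃ c : L, c ≠ 0 ∧ IsIntegral RS c ∧ IsIntegral RS (c * l))
    (e : RX ⊗[RS] L) (he : IsIdempotentElem e) : e = 0 ∨ e = 1 := by
  classical
  let C := integralClosure RS L
  haveI : Algebra.IsIntegral RS C := IsIntegralClosure.isIntegral_algebra RS L
  haveI : IsLocalRing C := Groth.EtaleAlgebra.isLocalRing_of_isIntegral_domain RS C
  haveI : IsLocalRing (RX ⊗[RS] C) := Groth.HensPair.HenselFibres.hloc_of_isSepClosed RS RX C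
  let ιM := Algebra.TensorProduct.map (AlgHom.id RX RX) C.val
  have hιM : Function.Injective ιM :=
    Module.Flat.lTensor_preserves_injective_linearMap (M := RX) C.val.toLinearMap Subtype.val_injective
  -- clear denominators
  obtain ⟨c, hc0, x, hx⟩ : ∃ (c : C) (_ : (c : L) ≠ 0) (x : RX ⊗[RS] C),
      ιM x = (1 ⊗ₜ (c : L)) * e := by
    clear he
    induction e with
    | zero => exact ⟨1, one_ne_zero, 0, by simp⟩
    | add e₁ e₂ h₁ h₂ =>
      obtain ⟨c₁, hc₁, x₁, hx₁⟩ := h₁
      obtain ⟨c₂, hc₂, x₂, hx₂⟩ := h₂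
      refine ⟨c₁ * c₂, mul_ne_zero hc₁ hc₂, (1 ⊗ₜ c₂) * x₁ + (1 ⊗ₜ c₁) * x₂, ?_⟩
      rw [map_add, map_mul, map_mul, hx₁, hx₂, mul_add, MulMemClass.coe_mul]
      show (1 ⊗ₜ[RS] (c₂ : L)) * _ + (1 ⊗ₜ[RS] (c₁ : L)) * _ = _
      rw [← mul_assoc, ← mul_assoc, Algebra.TensorProduct.tmul_mul_tmul,
        Algebra.TensorProduct.tmul_mul_tmul, mul_one, mul_comm (c₂ : L)]
    | tmul r l =>
      obtain ⟨c, hc, hci, hcl⟩ := hL l
      refine ⟨⟨c, hci⟩, hc, r ⊗ₜ ⟨c * l, hcl⟩, ?_⟩
      show r ⊗ₜ[RS] (c * l) = _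
      rw [Algebra.TensorProduct.tmul_mul_tmul, one_mul]
  have hx2 : x * x = (1 ⊗ₜ c) * x := hιM (by
    rw [map_mul, map_mul, hx]
    show _ = (1 ⊗ₜ[RS] (c : L)) * _
    rw [mul_mul_mul_comm, he.eq, mul_assoc])
  -- an étale neighbourhood
  obtain ⟨S, hS⟩ := TensorProduct.exists_finset x
  obtain ⟨MX⟩ := Groth.Hensel1.hensModel_of_isStrictHenselization (R := Bq) (S := RX)
  let G : MvPolynomial (Fin S.card) Bq →ₐ[Bq] Groth.Hensel1.Hens Bq MX.Ω :=
    MvPolynomial.aeval fun k => MX.equiv.symm (S.equivFin.symm k).1.1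
  obtain ⟨E, _, _, _, φ₀, g₀, hg₀⟩ := Groth.HensPair.hens_factor _ G
  let g : E →ₐ[Bq] RX := MX.equiv.toAlgHom.comp g₀
  letI : Algebra B E := ((algebraMap Bq E).comp (algebraMap B Bq)).toAlgebra
  letI : Algebra A E := ((algebraMap Bq E).comp (algebraMap A Bq)).toAlgebra
  haveI : IsScalarTower A Bq E := IsScalarTower.of_algebraMap_eq fun _ => rfl
  haveI : IsScalarTower B Bq E := IsScalarTower.of_algebraMap_eq fun _ => rfl
  haveI : IsScalarTower A B E := IsScalarTower.of_algebraMap_eq fun a => by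
    show algebraMap Bq E (algebraMap A Bq a) = algebraMap Bq E (algebraMap B Bq (algebraMap A B a))
    rw [← IsScalarTower.algebraMap_apply A B Bq]
  have hE : UIC A E :=
    ((UIC.of_flat_fp hB).trans (UIC.of_isLocalization (B := Bq) M)).trans UIC.of_smooth
  let gA : E →ₐ[A] RX := g.restrictScalars A
  letI : Algebra E RX := g.toRingHom.toAlgebra
  haveI : IsScalarTower Bq E RX := IsScalarTower.of_algebraMap_eq fun b => (g.commutes b).symm
  haveI : Module.Flat Bq RX := MX.flat
  haveI : Module.Flat E RX := flat_of_weaklyEtale Bq E RX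
  have hgflat : gA.Flat := RingHom.flat_algebraMap_iff.2 (inferInstance : Module.Flat E RX)
  -- base change to C
  letI : Algebra A L := ((algebraMap RS L).comp (algebraMap A RS)).toAlgebra
  haveI : IsScalarTower A RS L := IsScalarTower.of_algebraMap_eq fun _ => rfl
  let i : C →ₐ[A] L := C.val.restrictScalars A
  have hi : ∀ l : L, i.toRingHom.IsIntegralElem l → ∃ c, i c = l := fun l hl => by
    refine ⟨⟨l, ?_⟩, rfl⟩
    exact isIntegral_trans (R := RS) (A := C) l hl
  let φ := ((Algebra.TensorProduct.mapOfCompatibleSMul RS A RX RX C).toRingHom).comp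
    (Algebra.TensorProduct.map gA (AlgHom.id A C)).toRingHom
  let φL := ((Algebra.TensorProduct.mapOfCompatibleSMul RS A RX RX L).toRingHom).comp
    (Algebra.TensorProduct.map gA (AlgHom.id A L)).toRingHom
  let ιE := Algebra.TensorProduct.map (AlgHom.id E E) i
  have hsq : ∀ y, φL (ιE y) = ιM (φ y) := fun y => by
    induction y with
    | zero => simp
    | tmul a b => rfl
    | add a b ha hb => simp only [map_add, ha, hb]
  have hφflat : φ.Flat :=
    (RingHom.Flat.tensorProductMap hgflat (RingHom.Flat.of_bijective Function.bijective_id)).comp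
      (RingHom.Flat.mapOfCompatibleSMul (R := A) (S := RS) RX C (Algebra.WeaklyEtale.flat_lmul' A RS))
  obtain ⟨z, hz⟩ : ∃ z, φ z = x := by
    rw [hS]
    refine Subring.sum_mem φ.range fun p hp => ⟨φ₀ (MvPolynomial.X (S.equivFin ⟨p, hp⟩)) ⊗ₜ p.2, ?_⟩
    show g (φ₀ _) ⊗ₜ[RS] p.2 = _
    congr 1
    show MX.equiv (g₀ (φ₀ _)) = _
    rw [← AlgHom.comp_apply, hg₀, MvPolynomial.aeval_X, Equiv.symm_apply_apply, AlgEquiv.apply_symm_apply]
  -- the annihilator
  obtain ⟨a, ha, hau⟩ : ∃ a : E ⊗[A] C, a * (z * z - (1 ⊗ₜ c) * z) = 0 ∧ IsUnit (φ a) := by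
    letI : Algebra (E ⊗[A] C) (RX ⊗[RS] C) := φ.toAlgebra
    haveI : Module.Flat (E ⊗[A] C) (RX ⊗[RS] C) := hφflat
    have h0 : φ (z * z - (1 ⊗ₜ c) * z) = 0 := by
      have h1c : φ (1 ⊗ₜ c) = 1 ⊗ₜ c := by
        show gA 1 ⊗ₜ[RS] c = _
        rw [map_one]
      rw [map_sub, map_mul, map_mul, hz, h1c, hx2, sub_self]
    obtain ⟨k, a, y, ha, hy⟩ := Module.Flat.isTrivialRelation_of_sum_smul_eq_zero
      (R := E ⊗[A] C) (M := RX ⊗[RS] C) (f := fun _ : Fin 1 => z * z - (1 ⊗ₜ c) * z) (x := fun _ => 1) (by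
        rw [Fin.sum_univ_one]
        show φ (z * z - (1 ⊗ₜ c) * z) * 1 = 0
        rw [h0, zero_mul])
    have hsum : ∑ j, φ (a 0 j) * y j = 1 := (ha 0).symm
    obtain ⟨j, hj⟩ : ∃ j, IsUnit (φ (a 0 j)) := by
      by_contra hnone
      push Not at hnone
      have hmem : ∑ j, φ (a 0 j) * y j ∈ maximalIdeal (RX ⊗[RS] C) := Ideal.sum_mem _ fun j _ =>
        Ideal.mul_mem_right _ _ ((IsLocalRing.mem_maximalIdeal _).2 (hnone j))
      rw [hsum] at hmem
      exact (IsLocalRing.maximalIdeal.isMaximal _).ne_top ((Ideal.eq_top_iff_one _).2 hmem)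
    refine ⟨a 0 j, ?_, hj⟩
    have h3 := hy j
    rw [Fin.sum_univ_one] at h3
    rw [mul_comm]
    exact h3
  -- integral closure
  let zL : E ⊗[A] L := (1 ⊗ₜ (c : L)⁻¹) * ιE (a * z)
  have hcc : (1 ⊗ₜ (c : L)⁻¹ : E ⊗[A] L) * ιE (1 ⊗ₜ c) = 1 := by
    show _ * (1 ⊗ₜ[A] (c : L)) = _
    rw [Algebra.TensorProduct.tmul_mul_tmul, one_mul, inv_mul_cancel₀ hc0]
    rfl
  have hzL : zL * zL = ιE a * zL := by
    have h4 : ιE a * ιE (z * z) = ιE a * (ιE (1 ⊗ₜ c) * ιE z) := by
      rw [← map_mul ιE (1 ⊗ₜ c), ← map_mul, ← map_mul]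
      exact congrArg ιE (sub_eq_zero.1 (by rw [← mul_sub]; exact ha))
    calc zL * zL = (1 ⊗ₜ (c : L)⁻¹) * (1 ⊗ₜ (c : L)⁻¹) * ιE a * (ιE a * ιE (z * z)) := by
          simp only [zL, map_mul]; ring
      _ = ((1 ⊗ₜ (c : L)⁻¹) * ιE (1 ⊗ₜ c)) * ((1 ⊗ₜ (c : L)⁻¹) * ιE a * ιE a * ιE z) := by
          rw [h4]; ring
      _ = ιE a * zL := by
          rw [hcc]; simp only [zL, map_mul]; ring
  obtain ⟨w, hw⟩ := hE C L i hi zL
    ⟨X ^ 2 - Polynomial.C a * X, monic_X_pow_sub (n := 2) ((degree_C_mul_X_le a).trans_lt (by norm_num)),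
      by rw [eval₂_sub, eval₂_mul, eval₂_X_pow, eval₂_C, eval₂_X, pow_two, hzL]; exact sub_self _⟩
  have key : ιM (φ w) = ιM (φ a) * e := by
    rw [← hsq, hw]
    show φL (_ * ιE (a * z)) = _
    rw [map_mul, hsq, map_mul, map_mul, hz, hx]
    have : φL (1 ⊗ₜ (c : L)⁻¹) = 1 ⊗ₜ[RS] (c : L)⁻¹ := by
      show gA 1 ⊗ₜ[RS] (c : L)⁻¹ = _
      rw [map_one]
    rw [this]
    calc _ = ((1 ⊗ₜ[RS] (c : L)⁻¹ : RX ⊗[RS] L) * (1 ⊗ₜ[RS] (c : L))) * (ιM (φ a) * e) := by ring
      _ = _ := by
        rw [Algebra.TensorProduct.tmul_mul_tmul, one_mul, inv_mul_cancel₀ hc0]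
        exact one_mul _
  let e₀ := ↑hau.unit⁻¹ * φ w
  have he₀ : ιM e₀ = e := by
    rw [map_mul, key, ← mul_assoc, ← map_mul, IsUnit.val_inv_mul, map_one, one_mul]
  have hi₀ : IsIdempotentElem e₀ := hιM (by rw [map_mul, he₀, he.eq])
  rcases IsLocalRing.isUnit_or_isUnit_one_sub_self e₀ with hu | hu
  · refine Or.inr ?_
    rw [← he₀, hu.mul_left_cancel (show e₀ * e₀ = e₀ * 1 by rw [hi₀.eq, mul_one]), map_one]
  · refine Or.inl ?_
    rw [← he₀, hu.mul_right_eq_zero.mp (show (1 - e₀) * e₀ = 0 by rw [sub_mul, one_mul, hi₀.eq, sub_self]),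
      map_zero]

omit [IsLocalRing RS] in
/-- Every element of an algebraic extension of a residue field has a denominator integral over the ring. -/
theorem exists_denominator (p : Ideal RS) [p.IsPrime] (l : AlgebraicClosure p.ResidueField) :
    ∃ c : AlgebraicClosure p.ResidueField, c ≠ 0 ∧ IsIntegral RS c ∧ IsIntegral RS (c * l) := by
  have h : IsAlgebraic (RS ⧸ p) l :=
    (IsFractionRing.isAlgebraic_iff (RS ⧸ p) p.ResidueField (AlgebraicClosure p.ResidueField)).2
      (Algebra.IsAlgebraic.isAlgebraic l)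
  obtain ⟨r, hr0, hr⟩ := h.exists_integral_multiple
  have hinj : Function.Injective (algebraMap (RS ⧸ p) (AlgebraicClosure p.ResidueField)) := by
    rw [IsScalarTower.algebraMap_eq (RS ⧸ p) p.ResidueField]
    exact (RingHom.injective (algebraMap p.ResidueField (AlgebraicClosure p.ResidueField))).comp (IsFractionRing.injective (RS ⧸ p) p.ResidueField)
  refine ⟨algebraMap (RS ⧸ p) _ r, (map_ne_zero_iff _ hinj).2 hr0, isIntegral_trans (A := RS ⧸ p) _ isIntegral_algebraMap, ?_⟩
  rw [← Algebra.smul_def]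
  exact isIntegral_trans (A := RS ⧸ p) _ hr

set_option synthInstance.maxHeartbeats 200000 in
/-- All base changes to fields are connected. -/
theorem connectedSpace_tensor [Algebra.FinitePresentation A B] [Module.Flat A B]
    (hB : ∀ (K : Type u) [Field K] [Algebra A K], IsReduced (B ⊗[A] K))
    (M : Submonoid B) [IsLocalization M Bq]
    [IsLocalHom (algebraMap Bq RX)] [Hensel.IsStrictHenselization Bq RX]
    [Algebra.WeaklyEtale A RS] [Module.Flat RS RX] [IsLocalHom (algebraMap RS RX)]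
    [HenselianLocalRing RS] [IsSepClosed (ResidueField RS)]
    (K : Type u) [Field K] [Algebra RS K] : ConnectedSpace (PrimeSpectrum (K ⊗[RS] RX)) := by
  haveI : Module.FaithfullyFlat RS RX := Module.FaithfullyFlat.of_flat_of_isLocalHom
  haveI : Nontrivial (K ⊗[RS] RX) := inferInstance
  refine Ega4b.HenselConn.connectedSpace_of_idem _ fun e he => ?_
  let p := RingHom.ker (algebraMap RS K)
  haveI : p.IsPrime := RingHom.ker_isPrime _
  let L := AlgebraicClosure p.ResidueField
  let Ω := AlgebraicClosure K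
  let j : p.ResidueField →ₐ[RS] K := Ideal.ResidueField.liftₐ p (Algebra.ofId RS K) le_rfl (by
    intro x hx
    exact isUnit_iff_ne_zero.mpr fun h0 => hx h0)
  letI : Algebra p.ResidueField Ω := ((algebraMap K Ω).comp j.toRingHom).toAlgebra
  haveI : IsScalarTower RS p.ResidueField Ω := IsScalarTower.of_algebraMap_eq fun a => by
    show _ = algebraMap K Ω (j (algebraMap RS p.ResidueField a))
    rw [j.commutes, ← IsScalarTower.algebraMap_apply]
  let i : L →ₐ[p.ResidueField] Ω := IsAlgClosed.lift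
  letI : Algebra L Ω := i.toRingHom.toAlgebra
  haveI : IsScalarTower RS L Ω := IsScalarTower.of_algebraMap_eq fun a => by
    rw [IsScalarTower.algebraMap_apply RS p.ResidueField L, IsScalarTower.algebraMap_apply RS p.ResidueField Ω]
    exact (i.commutes _).symm
  let f := Algebra.TensorProduct.map (IsScalarTower.toAlgHom RS K Ω) (AlgHom.id RS RX)
  have hf : Function.Injective f :=
    Module.Flat.rTensor_preserves_injective_linearMap _ (RingHom.injective (algebraMap K Ω))
  let g := (Algebra.TensorProduct.cancelBaseChange RS L L Ω RX).symm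
  have hR : ∀ x : L ⊗[RS] RX, IsIdempotentElem x → x = 0 ∨ x = 1 := fun x hx => by
    let σ := Algebra.TensorProduct.comm RS L RX
    rcases idem_field (A := A) (B := B) (Bq := Bq) hB M L (exists_denominator p) (σ x) (hx.map σ) with h | h
    · exact Or.inl (σ.injective (h.trans (map_zero σ).symm))
    · exact Or.inr (σ.injective (h.trans (map_one σ).symm))
  rcases Ega4b.HenselConn.idem_tensor hR (g (f e)) ((he.map f).map g) with h | h
  · exact Or.inl (hf ((g.injective (h.trans (map_zero g).symm)).trans (map_zero f).symm))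
  · exact Or.inr (hf ((g.injective (h.trans (map_one g).symm)).trans (map_one f).symm))

end Groth.EtaleBase.BCZero
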