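import Groth.Agent.Ega4Algebra2.IntClosureBaseChange
import Mathlib.RingTheory.Smooth.IntegralClosure

/-!
Algebras whose base changes preserve integrally closed extensions.
-/

set_option autoImplicit false
set_option linter.style.haveILetI false

universe u

open TensorProduct

namespace Groth.EtaleBase.BCZero

lemma isIntegralElem_of_comp {R R' S : Type u} [CommRing R] [CommRing R'] [CommRing S] (σ : R →+* R')
    (h : R' →+* S) {x : S} (hx : (h.comp σ).IsIntegralElem x) : h.IsIntegralElem x := by
  obtain ⟨p, hp, hp0⟩ := hx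
  exact ⟨p.map σ, hp.map σ, by rw [Polynomial.eval₂_map]; exact hp0⟩

/-- Base change along `A → B` preserves integrally closed extensions. -/
def UIC (A B : Type u) [CommRing A] [CommRing B] [Algebra A B] : Prop :=
  ∀ (C L : Type u) [CommRing C] [CommRing L] [Algebra A C] [Algebra A L] (i : C →ₐ[A] L),
    (∀ l : L, i.toRingHom.IsIntegralElem l → ∃ c, i c = l) →
    ∀ z : B ⊗[A] L, (Algebra.TensorProduct.map (AlgHom.id B B) i).toRingHom.IsIntegralElem z →
      ∃ w, Algebra.TensorProduct.map (AlgHom.id B B) i w = z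

variable {A B : Type u} [CommRing A] [CommRing B] [Algebra A B]

/-- Transitivity. -/
theorem UIC.trans {B' : Type u} [CommRing B'] [Algebra A B'] [Algebra B B'] [IsScalarTower A B B']
    (h : UIC A B) (h' : UIC B B') : UIC A B' := by
  intro C L _ _ _ _ i hi z hz
  let i' := Algebra.TensorProduct.map (AlgHom.id B B) i
  let eC := Algebra.TensorProduct.cancelBaseChange A B B' B' C
  let eL := Algebra.TensorProduct.cancelBaseChange A B B' B' L
  let m := Algebra.TensorProduct.map (AlgHom.id B' B') i'
  let m₀ := Algebra.TensorProduct.map (AlgHom.id B' B') i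
  have nat : eL.toAlgHom.comp m = m₀.comp eC.toAlgHom := by
    apply Algebra.TensorProduct.ext
    · exact Subsingleton.elim _ _
    · apply AlgHom.ext
      intro x
      induction x with
      | zero => simp
      | tmul b c => simp [eL, m, m₀, eC, i']
      | add x y hx hy => simp only [map_add, hx, hy]
  have nat' : ∀ x, eL (m x) = m₀ (eC x) := fun x => DFunLike.congr_fun nat x
  have hz' : m.toRingHom.IsIntegralElem (eL.symm z) := by
    refine isIntegralElem_of_comp eC.symm.toRingEquiv.toRingHom m.toRingHom ?_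
    have h1 := hz.map eL.symm.toRingEquiv.toRingHom
    have h2 : m.toRingHom.comp eC.symm.toRingEquiv.toRingHom =
        eL.symm.toRingEquiv.toRingHom.comp m₀.toRingHom := RingHom.ext fun x => by
      show m (eC.symm x) = eL.symm (m₀ x)
      apply eL.injective
      rw [nat', eC.apply_symm_apply, eL.apply_symm_apply]
    rw [h2]
    exact h1
  obtain ⟨w, hw⟩ := h' (B ⊗[A] C) (B ⊗[A] L) i' (h C L i hi) _ hz'
  exact ⟨eC w, (nat' w).symm.trans ((congrArg eL hw).trans (eL.apply_symm_apply z))⟩

/-- The criterion through Mathlib's comparison map. -/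
theorem UIC.of_toIntegralClosure
    (H : ∀ (C L : Type u) [CommRing C] [CommRing L] [Algebra A C] [Algebra C L],
      Function.Bijective (TensorProduct.toIntegralClosure C (C ⊗[A] B) L)) : UIC A B := by
  intro C L _ _ _ _ i hi z hz
  letI : Algebra C L := i.toRingHom.toAlgebra
  haveI : IsScalarTower A C L := IsScalarTower.of_algebraMap_eq fun a => (i.commutes a).symm
  let σ : (C ⊗[A] B) ⊗[C] L ≃+* B ⊗[A] L :=
    ((Algebra.TensorProduct.comm C (C ⊗[A] B) L).toRingEquiv.trans
      (Algebra.TensorProduct.cancelBaseChange A C L L B).toRingEquiv).trans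
      (Algebra.TensorProduct.comm A L B).toRingEquiv
  have hσ : ∀ (c : C) (b : B) (l : L), σ ((c ⊗ₜ b) ⊗ₜ l) = b ⊗ₜ (c • l) := fun c b l => by
    simp [σ]
  let τ : B ⊗[A] C ≃+* C ⊗[A] B := (Algebra.TensorProduct.comm A B C).toRingEquiv
  have hint : IsIntegral (C ⊗[A] B) (σ.symm z) := by
    refine isIntegralElem_of_comp τ.toRingHom (algebraMap (C ⊗[A] B) ((C ⊗[A] B) ⊗[C] L)) ?_
    have h2 : (algebraMap (C ⊗[A] B) ((C ⊗[A] B) ⊗[C] L)).comp τ.toRingHom =
        σ.symm.toRingHom.comp (Algebra.TensorProduct.map (AlgHom.id B B) i).toRingHom := by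
      refine RingHom.ext fun x => ?_
      show ((τ x) ⊗ₜ[C] (1 : L)) = σ.symm (Algebra.TensorProduct.map (AlgHom.id B B) i x)
      apply σ.injective
      rw [σ.apply_symm_apply]
      induction x with
      | zero => simp
      | tmul b c => simp [τ, hσ, Algebra.smul_def, RingHom.algebraMap_toAlgebra]
      | add x y hx hy => simp only [map_add, TensorProduct.add_tmul, hx, hy]
    rw [h2]
    exact hz.map σ.symm.toRingHom
  obtain ⟨w, hw⟩ := (H C L).2 ⟨σ.symm z, hint⟩
  have hw' : σ (Algebra.TensorProduct.map (AlgHom.id (C ⊗[A] B) (C ⊗[A] B)) (integralClosure C L).val w) = z :=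
    (congrArg σ (congrArg Subtype.val hw)).trans (σ.apply_symm_apply z)
  rw [← hw']
  clear hw hw'
  induction w with
  | zero => exact ⟨0, by simp⟩
  | add x y hx hy =>
    obtain ⟨a, ha⟩ := hx
    obtain ⟨b, hb⟩ := hy
    exact ⟨a + b, by simp only [map_add, ha, hb]⟩
  | tmul s l =>
    induction s with
    | zero => exact ⟨0, by simp⟩
    | add x y hx hy =>
      obtain ⟨a, ha⟩ := hx
      obtain ⟨b, hb⟩ := hy
      exact ⟨a + b, by simp only [map_add, TensorProduct.add_tmul, ha, hb]⟩
    | tmul c b =>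
      obtain ⟨c', hc'⟩ := hi l l.2
      exact ⟨b ⊗ₜ (c * c'), by simp [hσ, hc', Algebra.smul_def, RingHom.algebraMap_toAlgebra]⟩

/-- Smooth algebras. -/
theorem UIC.of_smooth [Algebra.Smooth A B] : UIC A B :=
  UIC.of_toIntegralClosure fun _ _ _ _ _ _ => TensorProduct.toIntegralClosure_bijective_of_smooth

/-- Localisations. -/
theorem UIC.of_isLocalization (M : Submonoid A) [IsLocalization M B] : UIC A B :=
  UIC.of_toIntegralClosure fun C _ _ _ _ _ =>
    TensorProduct.toIntegralClosure_bijective_of_isLocalization (Algebra.algebraMapSubmonoid C M)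

/-- Flat algebras with geometrically reduced fibres over Noetherian rings. -/
theorem UIC.of_reduced [IsNoetherianRing A] [Module.Flat A B]
    (hB : ∀ (L : Type u) [Field L] [Algebra A L], IsReduced (B ⊗[A] L)) : UIC A B := by
  intro C L _ _ _ _ i hi z hz
  have hio : Ega4b.ICBC.IntOver B i.range z := by
    refine isIntegralElem_of_comp (Algebra.TensorProduct.map (AlgHom.id B B) i.rangeRestrict).toRingHom _ ?_
    have : (Algebra.TensorProduct.map (AlgHom.id B B) i.range.val).toRingHom.comp
        (Algebra.TensorProduct.map (AlgHom.id B B) i.rangeRestrict).toRingHom =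
        (Algebra.TensorProduct.map (AlgHom.id B B) i).toRingHom := RingHom.ext fun x => by
      show Ega4b.ICBC.bc B i.range.val (Ega4b.ICBC.bc B i.rangeRestrict x) = _
      rw [Ega4b.ICBC.bc_comp]
      rfl
    rw [this]
    exact hz
  obtain ⟨w, rfl⟩ := Ega4b.ICBC.mem_img_of_intOver_of_reduced B hB i.range hio
  clear hz hio
  induction w using TensorProduct.induction_on with
  | zero => exact ⟨0, by simp⟩
  | add x y hx hy =>
    obtain ⟨a, ha⟩ := hx
    obtain ⟨b, hb⟩ := hy
    exact ⟨a + b, by simp only [map_add, ha, hb]⟩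
  | tmul b l =>
    obtain ⟨l, q, hq, hq0⟩ := l
    obtain ⟨q', hq', hqm⟩ := Ega4b.ICBC.exists_monic_lift i.rangeRestrict.toRingHom hq
      (fun n => i.rangeRestrict_surjective _)
    obtain ⟨c, hc⟩ := hi l ⟨q', hqm, by
      rw [← hq', Polynomial.eval₂_map] at hq0
      exact hq0⟩
    exact ⟨b ⊗ₜ c, by simp [hc]⟩

/-- Base change. -/
theorem UIC.baseChange {A₀ B₀ : Type u} [CommRing A₀] [CommRing B₀] [Algebra A₀ B₀] [Algebra A₀ A]
    (h : UIC A₀ B₀) (e : A ⊗[A₀] B₀ ≃ₐ[A] B) : UIC A B := by
  intro C L _ _ _ _ i hi z hz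
  letI : Algebra A₀ C := ((algebraMap A C).comp (algebraMap A₀ A)).toAlgebra
  letI : Algebra A₀ L := ((algebraMap A L).comp (algebraMap A₀ A)).toAlgebra
  haveI : IsScalarTower A₀ A C := IsScalarTower.of_algebraMap_eq fun _ => rfl
  haveI : IsScalarTower A₀ A L := IsScalarTower.of_algebraMap_eq fun _ => rfl
  let θC : B₀ ⊗[A₀] C ≃+* B ⊗[A] C :=
    (((Algebra.TensorProduct.comm A₀ B₀ C).toRingEquiv.trans
      (Algebra.TensorProduct.cancelBaseChange A₀ A C C B₀).symm.toRingEquiv).trans
      (Algebra.TensorProduct.congr (AlgEquiv.refl (R := A) (A₁ := C)) e).toRingEquiv).trans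
      (Algebra.TensorProduct.comm A C B).toRingEquiv
  let θL : B₀ ⊗[A₀] L ≃+* B ⊗[A] L :=
    (((Algebra.TensorProduct.comm A₀ B₀ L).toRingEquiv.trans
      (Algebra.TensorProduct.cancelBaseChange A₀ A L L B₀).symm.toRingEquiv).trans
      (Algebra.TensorProduct.congr (AlgEquiv.refl (R := A) (A₁ := L)) e).toRingEquiv).trans
      (Algebra.TensorProduct.comm A L B).toRingEquiv
  let i₀ : C →ₐ[A₀] L := i.restrictScalars A₀
  have nat : ∀ x, Algebra.TensorProduct.map (AlgHom.id B B) i (θC x) =
      θL (Algebra.TensorProduct.map (AlgHom.id B₀ B₀) i₀ x) := fun x => by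
    induction x with
    | zero => simp
    | tmul b c => simp [θC, θL, i₀]
    | add x y hx hy => simp only [map_add, hx, hy]
  have hz' : (Algebra.TensorProduct.map (AlgHom.id B₀ B₀) i₀).toRingHom.IsIntegralElem (θL.symm z) := by
    refine isIntegralElem_of_comp θC.symm.toRingHom _ ?_
    have h2 : (Algebra.TensorProduct.map (AlgHom.id B₀ B₀) i₀).toRingHom.comp θC.symm.toRingHom =
        θL.symm.toRingHom.comp (Algebra.TensorProduct.map (AlgHom.id B B) i).toRingHom :=
      RingHom.ext fun x => by
        show Algebra.TensorProduct.map (AlgHom.id B₀ B₀) i₀ (θC.symm x) =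
          θL.symm (Algebra.TensorProduct.map (AlgHom.id B B) i x)
        apply θL.injective
        rw [← nat, θC.apply_symm_apply, θL.apply_symm_apply]
    rw [h2]
    exact hz.map θL.symm.toRingHom
  obtain ⟨w, hw⟩ := h C L i₀ hi _ hz'
  exact ⟨θC w, (nat w).trans ((congrArg θL hw).trans (θL.apply_symm_apply z))⟩

end Groth.EtaleBase.BCZero
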