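import Groth.Agent.EtaleBase.BCZero.IntClosed
import Groth.Agent.Calg2.Uniform.Approximation
import Groth.Agent.FlatMorOne.FlatLocusColimit

/-!
Flat finitely presented algebras with geometrically reduced fibres preserve integrally closed
extensions, over any base ring.
-/

set_option autoImplicit false
set_option linter.style.haveILetI false

universe u

open TensorProduct

namespace Groth.EtaleBase.BCZero

open Groth.Calg2.Uniform in
/-- Base change of a presented algebra. -/
theorem exists_equiv_quotient {R A B : Type u} [CommRing R] [CommRing A] [CommRing B] [Algebra R A]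
    [Algebra A B] {N : ℕ} (π : MvPolynomial (Fin N) A →ₐ[A] B) (hπ : Function.Surjective π)
    (J : Ideal (MvPolynomial (Fin N) R))
    (hJ : J.map (MvPolynomial.map (algebraMap R A)) = RingHom.ker π.toRingHom) :
    Nonempty (A ⊗[R] (MvPolynomial (Fin N) R ⧸ J) ≃ₐ[A] B) := by
  let π₁ := Ideal.Quotient.mkₐ R J
  let e := MvPolynomial.algebraTensorAlgEquiv (σ := Fin N) R A
  let Θ : MvPolynomial (Fin N) A →ₐ[A] A ⊗[R] (MvPolynomial (Fin N) R ⧸ J) :=
    (Algebra.TensorProduct.map (AlgHom.id A A) π₁).comp e.symm.toAlgHom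
  have hπ₁ : Function.Surjective π₁ := Ideal.Quotient.mkₐ_surjective R J
  have hΘs : Function.Surjective Θ := by
    have h1 : Function.Surjective (Algebra.TensorProduct.map (AlgHom.id A A) π₁) :=
      TensorProduct.map_surjective (g := (LinearMap.id : A →ₗ[R] A)) (g' := π₁.toLinearMap)
        Function.surjective_id hπ₁
    exact h1.comp e.symm.surjective
  have hk₁ : RingHom.ker π₁.toRingHom = J := Ideal.Quotient.mkₐ_ker R J
  have hker : RingHom.ker Θ = RingHom.ker π := by
    refine Eq.trans ?_ hJ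
    refine le_antisymm (fun x hx => ?_) (Ideal.map_le_iff_le_comap.2 fun p hp => ?_)
    · have h1 : e.symm x ∈ RingHom.ker (Algebra.TensorProduct.map (AlgHom.id A A) π₁).toRingHom := hx
      have h2 := (Algebra.TensorProduct.lTensor_ker (A := A) π₁ hπ₁).le
      have h3 : e.symm x ∈ (RingHom.ker π₁.toRingHom).map
          (Algebra.TensorProduct.includeRight : MvPolynomial (Fin N) R →ₐ[R] A ⊗[R] MvPolynomial (Fin N) R).toRingHom := h2 h1
      have h4 := Ideal.mem_map_of_mem e.toRingEquiv.toRingHom h3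
      rw [Ideal.map_map, hk₁] at h4
      have h5 : e.toRingEquiv.toRingHom (e.symm x) = x := e.apply_symm_apply x
      rw [h5] at h4
      have h6 : e.toRingEquiv.toRingHom.comp
          (Algebra.TensorProduct.includeRight : MvPolynomial (Fin N) R →ₐ[R] A ⊗[R] MvPolynomial (Fin N) R).toRingHom =
          MvPolynomial.map (algebraMap R A) := RingHom.ext fun p =>
        (MvPolynomial.algebraTensorAlgEquiv_tmul (R := R) (A := A) (1 : A) p).trans (one_smul _ _)
      rw [h6] at h4
      exact h4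
    · rw [Ideal.mem_comap, RingHom.mem_ker]
      change Algebra.TensorProduct.map (AlgHom.id A A) π₁ (e.symm (MvPolynomial.map (algebraMap R A) p)) = 0
      rw [show e.symm (MvPolynomial.map (algebraMap R A) p) = (1 : A) ⊗ₜ[R] p from
        MvPolynomial.algebraTensorAlgEquiv_symm_map R A p, Algebra.TensorProduct.map_tmul,
        show π₁ p = 0 from (Ideal.Quotient.eq_zero_iff_mem).2 hp, tmul_zero]
  exact ⟨((Ideal.quotientKerAlgEquivOfSurjective hΘs).symm.trans
    (Ideal.quotientEquivAlgOfEq A hker)).trans (Ideal.quotientKerAlgEquivOfSurjective hπ)⟩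

/-- A Noetherian stage suffices. -/
theorem UIC.of_stage {R₁ G₁ A B₁ B : Type u} [CommRing R₁] [CommRing G₁] [CommRing A] [CommRing B₁]
    [CommRing B] [Algebra R₁ G₁] [Algebra R₁ B₁] [Algebra R₁ A] [Algebra G₁ A] [IsScalarTower R₁ G₁ A]
    [Algebra A B] [IsNoetherianRing G₁] (hflat : Module.Flat G₁ (G₁ ⊗[R₁] B₁))
    (hB₁ : ∀ (L : Type u) [Field L] [Algebra R₁ L], IsReduced (B₁ ⊗[R₁] L))
    (e : A ⊗[R₁] B₁ ≃ₐ[A] B) : UIC A B := by
  haveI := hflat
  refine (UIC.of_reduced (A := G₁) (B := G₁ ⊗[R₁] B₁) ?_).baseChange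
    ((Algebra.TensorProduct.cancelBaseChange R₁ G₁ A A B₁).trans e)
  intro L _ _
  letI : Algebra R₁ L := ((algebraMap G₁ L).comp (algebraMap R₁ G₁)).toAlgebra
  haveI : IsScalarTower R₁ G₁ L := IsScalarTower.of_algebraMap_eq fun _ => rfl
  haveI := hB₁ L
  let σ := ((Algebra.TensorProduct.comm G₁ (G₁ ⊗[R₁] B₁) L).toRingEquiv.trans
    (Algebra.TensorProduct.cancelBaseChange R₁ G₁ L L B₁).toRingEquiv).trans
    (Algebra.TensorProduct.comm R₁ L B₁).toRingEquiv
  exact isReduced_of_injective σ.toRingHom σ.injective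

set_option maxHeartbeats 1000000 in
set_option synthInstance.maxHeartbeats 400000 in
open Groth.Calg2.Uniform in
/-- The main criterion. -/
theorem UIC.of_flat_fp {A B : Type u} [CommRing A] [CommRing B] [Algebra A B]
    [Algebra.FinitePresentation A B] [Module.Flat A B]
    (hB : ∀ (K : Type u) [Field K] [Algebra A K], IsReduced (B ⊗[A] K)) : UIC A B := by
  obtain ⟨N, π, hπ, hker⟩ := Algebra.FinitePresentation.out (R := A) (A := B)
  have hgr : ∀ p, GeomRedAt (RingHom.ker π.toRingHom) p := by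
    intro p K _ φ _
    letI : Algebra A K := φ.toAlgebra
    exact (isReduced_tensor_iff π hπ).1 (hB K)
  obtain ⟨R₁, c, F, hR₁, hF, hgr₁⟩ := exists_geomRed_model _ hker hgr
  let J : Ideal (MvPolynomial (Fin N) R₁) := Ideal.span (Set.range F)
  let B₁ := MvPolynomial (Fin N) R₁ ⧸ J
  obtain ⟨eB⟩ := exists_equiv_quotient (R := R₁) π hπ J hF
  haveI : Algebra.FinitePresentation R₁ B₁ :=
    Algebra.FinitePresentation.quotient (Submodule.fg_span (Set.finite_range F))
  let ι : Type u := {R' : Subalgebra ℤ A // R'.FG ∧ R₁ ≤ R'}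
  haveI : Nonempty ι := ⟨⟨R₁, hR₁, le_rfl⟩⟩
  haveI : IsDirectedOrder ι := ⟨fun i j => ⟨⟨i.1 ⊔ j.1, i.2.1.sup j.2.1, i.2.2.trans le_sup_left⟩,
    (le_sup_left : i.1 ≤ i.1 ⊔ j.1), (le_sup_right : j.1 ≤ i.1 ⊔ j.1)⟩⟩
  let G : ι → Type u := fun i => i.1
  letI : ∀ i, CommRing (G i) := fun i => inferInstanceAs (CommRing i.1)
  letI : ∀ i, Algebra R₁ (G i) := fun i => (Subalgebra.inclusion i.2.2).toRingHom.toAlgebra
  let g : ∀ i j : ι, i ≤ j → G i →ₐ[R₁] G j := fun i j h =>
    { (Subalgebra.inclusion (show i.1 ≤ j.1 from h)).toRingHom with commutes' := fun _ => rfl }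
  let can : ∀ i : ι, G i →ₐ[R₁] A := fun i => { i.1.val.toRingHom with commutes' := fun _ => rfl }
  haveI : Module.Flat A (A ⊗[R₁] B₁) := Module.Flat.of_linearEquiv eB.toLinearEquiv
  obtain ⟨i, hflat⟩ := Groth.FlatMorOne.exists_flat_stage_of_colimit g can (fun _ _ _ => rfl)
    (fun a => ⟨⟨R₁ ⊔ Algebra.adjoin ℤ {a}, hR₁.sup (by simpa using Subalgebra.fg_adjoin_finset ({a} : Finset A)), le_sup_left⟩,
      ⟨a, Algebra.mem_sup_right (Algebra.subset_adjoin rfl)⟩, rfl⟩)
    (fun i x hx => ⟨i, le_rfl, Subtype.ext hx⟩) (B₀ := B₁) B₁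
  haveI : Algebra.FiniteType ℤ (G i) := (Subalgebra.fg_iff_finiteType i.1).1 i.2.1
  haveI : IsNoetherianRing (G i) := Algebra.FiniteType.isNoetherianRing ℤ (G i)
  letI : Algebra (G i) A := (can i).toRingHom.toAlgebra
  haveI : IsScalarTower R₁ (G i) A := IsScalarTower.of_algebraMap_eq fun _ => rfl
  refine UIC.of_stage (G₁ := G i) (B₁ := B₁) hflat ?_ eB
  intro L _ _
  exact (isReduced_tensor_iff (Ideal.Quotient.mkₐ R₁ J) (Ideal.Quotient.mkₐ_surjective R₁ J)).2 (by
    rw [show RingHom.ker (Ideal.Quotient.mkₐ R₁ J).toRingHom = J from Ideal.Quotient.mkₐ_ker R₁ J]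
    exact hgr₁ ⟨RingHom.ker (algebraMap R₁ L), RingHom.ker_isPrime _⟩ L _ rfl)

end Groth.EtaleBase.BCZero
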