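import Groth.Agent.EtaleBase.Limit.SecClass
import Groth.Agent.EtaleBase.PushEssImage
import Groth.Agent.EtaleBase.ConnectedFibresFlat
import Groth.Agent.AlgSp2.FppfProps
import Groth.Agent.S1361
import Mathlib.CategoryTheory.Limits.Preserves.Shapes.Products

/-!
Inverse images along flat morphisms, locally of finite presentation, with geometrically reduced
fibres preserve products.
-/

set_option autoImplicit false
set_option linter.style.haveILetI false

universe u

open CategoryTheory CategoryTheory.Limits AlgebraicGeometry Opposite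

namespace Groth.EtaleBase.BCZero

variable {X S : Scheme.{u}} (f : X ⟶ S)

/-- Geometrically reduced morphisms composed with étale ones on the source. -/
theorem geometricallyReduced_etale_comp {U : Scheme.{u}} (j : U ⟶ X) [AlgebraicGeometry.Etale j]
    [GeometricallyReduced f] : GeometricallyReduced (j ≫ f) := by
  rw [GeometricallyReduced.eq_geometrically, geometrically_iff_of_isClosedUnderIsomorphisms]
  intro K _ a
  haveI : IsReduced (pullback f a) :=
    GeometricallyReduced.geometrically_isReduced _ _ _ (IsPullback.of_hasPullback f a)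
  haveI : IsReduced (pullback j (pullback.fst f a)) :=
    Groth.AlgSp2.isReduced_of_smooth_morphism (pullback.snd j (pullback.fst f a))
  exact isReduced_of_isOpenImmersion (pullbackRightPullbackFstIso f a j).inv

/-- Pairs of étale objects over which the inverse image is computed on sections. -/
structure Good (W : X.Etale) (V : S.Etale) : Type u where
  /-- the morphism -/
  m : W ⟶ (EtCoh.bc f).obj V
  conn : ∀ G : EtCoh.Ab S, Function.Bijective fun y : G.obj.obj (op V) =>
    ((EtCoh.pull f).obj G).obj.map m.op (((EtCoh.pullPushAdj f).unit.app G).hom.app (op V) y)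

lemma app_bijective {Z : Scheme.{u}} {A B : EtCoh.Ab Z} (φ : A ⟶ B) [IsIso φ] (O : Z.Etale) :
    Function.Bijective (φ.hom.app (op O)) :=
  (ConcreteCategory.isIso_iff_bijective _).1
    (inferInstanceAs (IsIso (((sheafToPresheaf _ _).map φ).app (op O))))

open EtLimit in
set_option maxHeartbeats 2000000 in
/-- Sections over the target are global sections of the inverse image along connected fibres. -/
theorem sec_bijective_of_connected {P : Scheme.{u}} (p₀ : P ⟶ S) (V : S.Etale) (b : P ⟶ V.left)
    (hb : b ≫ V.hom = p₀) [Flat b] [QuasiCompact b] [GeometricallyConnected b] (G : EtCoh.Ab S) :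
    Function.Bijective (sec p₀ V b hb G) := by
  let ν : (EtCoh.pull b).obj ((EtCoh.pull V.hom).obj G) ⟶ (EtCoh.pull p₀).obj G :=
    (((EtCore.pullComp b V.hom).symm ≪≫ EtCore.pullCongr hb).app G).hom
  haveI : IsIso ν := inferInstanceAs
    (IsIso (((EtCore.pullComp b V.hom).symm ≪≫ EtCore.pullCongr hb).app G).hom)
  have key : ∀ y, ((EtCoh.pull p₀).obj G).obj.map (EtCore.bcTopIso b).inv.op
      (((EtCoh.pullPushAdj b).unit.app _ ≫ (EtCoh.push b).map ν).hom.app (op (EtCoh.top V.left))
        (sec V.hom V (𝟙 V.left) (Category.id_comp _) G y)) = sec p₀ V b hb G y := fun y => by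
    have h := pull_sec b V.hom hb G V (𝟙 V.left) (Category.id_comp _) b hb (Category.comp_id b) y
    rw [Adjunction.homEquiv_unit] at h
    exact h
  have hu : Function.Bijective (ConnFib.un b ((EtCoh.pull V.hom).obj G) (EtCoh.top V.left)) :=
    ConnFib.un_top_bijective_of_flat b (fun Ω _ _ s =>
      GeometricallyConnected.geometrically_connectedSpace _ _ _ (.of_hasPullback _ _)) _
  refine (congrArg Function.Bijective (funext key)).mp ?_
  exact ((ConcreteCategory.isIso_iff_bijective _).1 inferInstance).comp
    ((app_bijective ν _).comp (hu.comp (sec_bijective V G)))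

open EtLimit in
/-- The composite with an étale morphism of the source. -/
theorem key_good (W : X.Etale) (V : S.Etale) (m : W ⟶ (EtCoh.bc f).obj V) (b : W.left ⟶ V.left)
    (hm : m.left ≫ pullback.fst V.hom f = b) (hb : b ≫ V.hom = W.hom ≫ f) (G : EtCoh.Ab S)
    (y : G.obj.obj (op V)) :
    ((((EtCore.pullComp W.hom f).symm ≪≫ EtCore.pullCongr (rfl : W.hom ≫ f = _)).app G).hom).hom.app
        (op (EtCoh.top W.left))
      (sec W.hom W (𝟙 W.left) (Category.id_comp _) ((EtCoh.pull f).obj G)
        (((EtCoh.pull f).obj G).obj.map m.op (((EtCoh.pullPushAdj f).unit.app G).hom.app (op V) y))) =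
      sec (W.hom ≫ f) V b hb G y :=
  (congrArg _ (sec_res W.hom ((EtCoh.bc f).obj V) m.left (MorphismProperty.Over.w m) m
    (𝟙 W.left) (Category.id_comp _) (Category.id_comp _) ((EtCoh.pull f).obj G) _)).trans
    (via_sec W.hom f (rfl : W.hom ≫ f = _) G V m.left (MorphismProperty.Over.w m) b hb hm y)

/-- Connected geometric fibres give good pairs. -/
theorem nonempty_good (W : X.Etale) (V : S.Etale) (b : W.left ⟶ V.left)
    (hb : b ≫ V.hom = W.hom ≫ f) [Flat b] [QuasiCompact b] [GeometricallyConnected b] :
    Nonempty (Good f W V) := by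
  let m : W ⟶ (EtCoh.bc f).obj V :=
    MorphismProperty.Over.homMk (pullback.lift b W.hom hb) (pullback.lift_snd _ _ _)
  refine ⟨⟨m, fun G => ?_⟩⟩
  have h2 := sec_bijective_of_connected (W.hom ≫ f) V b hb G
  have hν := app_bijective
    (((EtCore.pullComp W.hom f).symm ≪≫ EtCore.pullCongr (rfl : W.hom ≫ f = _)).app G).hom
    (EtCoh.top W.left)
  refine (Function.Bijective.of_comp_iff'
    (hν.comp (EtLimit.sec_bijective W ((EtCoh.pull f).obj G))) _).1 ?_
  exact (congrArg Function.Bijective (funext (key_good f W V m b (pullback.lift_fst _ _ _) hb G))).mpr h2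

variable [Flat f] [LocallyOfFinitePresentation f] [GeometricallyReduced f]

/-- Good pairs cover everything. -/
theorem exists_good (U : X.Etale) (u : U.left) :
    ∃ (W : X.Etale) (j : W ⟶ U) (V : S.Etale) (w : W.left), Nonempty (Good f W V) ∧ j.left.base w = u := by
  haveI : AlgebraicGeometry.Etale U.hom := U.prop
  haveI : GeometricallyReduced (U.hom ≫ f) := geometricallyReduced_etale_comp f U.hom
  haveI : Flat U.hom := inferInstance
  obtain ⟨X', S', a, b, c, ha, ⟨w, hw⟩, hcet, hsq, hfl, -, hqc, -, hgc, -⟩ :=
    Groth.Agent.S1361.result (U.hom ≫ f) u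
  let W : X.Etale := MorphismProperty.Over.mk ⊤ (a ≫ U.hom) (inferInstanceAs (AlgebraicGeometry.Etale (a ≫ U.hom)))
  let V : S.Etale := MorphismProperty.Over.mk ⊤ c hcet
  let j : W ⟶ U := MorphismProperty.Over.homMk a rfl
  haveI : Flat (b : W.left ⟶ V.left) := hfl
  haveI : QuasiCompact (b : W.left ⟶ V.left) := hqc
  haveI : GeometricallyConnected (b : W.left ⟶ V.left) := hgc
  exact ⟨W, j, V, w, @nonempty_good _ _ f W V b (hsq.symm.trans (Category.assoc _ _ _).symm) hfl hqc hgc, hw⟩

/-- Sections over the base, as functors of the sheaf. -/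
noncomputable def evalAb {Z : Scheme.{u}} (U : Z.Etale) : EtCoh.Ab Z ⥤ AddCommGrpCat.{u + 1} :=
  sheafToPresheaf _ _ ⋙ (evaluation _ _).obj (op U)

set_option maxHeartbeats 1000000 in
/-- Inverse image preserves products. -/
theorem preservesProducts (ι : Type u) : PreservesLimitsOfShape (Discrete ι) (EtCoh.pull f) := by
  haveI : ∀ {Z : Scheme.{u}} (U : Z.Etale), PreservesLimitsOfShape (Discrete ι) (evalAb U) := fun U => by
    unfold evalAb; infer_instance
  suffices h : ∀ F : ι → EtCoh.Ab S, IsIso (piComparison (EtCoh.pull f) F) by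
    haveI : ∀ F : ι → EtCoh.Ab S, PreservesLimit (Discrete.functor F) (EtCoh.pull f) := fun F =>
      haveI := h F; PreservesProduct.of_iso_comparison _ _
    exact preservesLimitsOfShape_of_discrete _
  intro F
  let η := piComparison (EtCoh.pull f) F
  -- bijectivity on good pairs
  have hgood : ∀ (W : X.Etale) (V : S.Etale), Nonempty (Good f W V) →
      Function.Bijective (η.hom.app (op W)) := by
    rintro W V ⟨P⟩
    let α : evalAb V ⟶ EtCoh.pull f ⋙ evalAb W :=
      { app := fun G => ((EtCoh.pullPushAdj f).unit.app G).hom.app (op V) ≫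
          ((EtCoh.pull f).obj G).obj.map P.m.op
        naturality := fun G G' φ => by
          ext y
          show ((EtCoh.pull f).obj G').obj.map P.m.op
              (((EtCoh.pullPushAdj f).unit.app G').hom.app (op V) (φ.hom.app (op V) y)) =
            ((EtCoh.pull f).map φ).hom.app (op W) (((EtCoh.pull f).obj G).obj.map P.m.op
              (((EtCoh.pullPushAdj f).unit.app G).hom.app (op V) y))
          refine (congrArg _ (ConcreteCategory.congr_hom (congrArg (fun ψ => ψ.hom.app (op V))
            ((EtCoh.pullPushAdj f).unit.naturality φ)) y)).trans ?_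
          exact (NatTrans.naturality_apply ((EtCoh.pull f).map φ).hom P.m.op _).symm }
    haveI : ∀ G, IsIso (α.app G) := fun G => (ConcreteCategory.isIso_iff_bijective _).2 (P.conn G)
    haveI : IsIso α := NatIso.isIso_of_isIso_app α
    haveI : PreservesLimitsOfShape (Discrete ι) (EtCoh.pull f ⋙ evalAb W) :=
      preservesLimitsOfShape_of_natIso (asIso α)
    haveI : IsIso (piComparison (EtCoh.pull f ⋙ evalAb W) F) := by
      rw [← PreservesProduct.iso_hom]; infer_instance
    haveI : IsIso (piComparison (evalAb W) (fun i => (EtCoh.pull f).obj (F i))) := by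
      rw [← PreservesProduct.iso_hom]; infer_instance
    have hc : (evalAb W).map η ≫ piComparison (evalAb W) (fun i => (EtCoh.pull f).obj (F i)) =
        piComparison (EtCoh.pull f ⋙ evalAb W) F := by
      refine Limits.Pi.hom_ext _ _ fun i => ?_
      rw [Category.assoc, piComparison_comp_π, ← Functor.map_comp, piComparison_comp_π]
      exact (piComparison_comp_π (EtCoh.pull f ⋙ evalAb W) F i).symm
    haveI : IsIso ((evalAb W).map η) := IsIso.of_isIso_fac_right hc
    exact (ConcreteCategory.isIso_iff_bijective ((evalAb W).map η)).1 inferInstance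
  have hinj : Sheaf.IsLocallyInjective η := by
    constructor
    intro U x y hxy
    rw [mem_topology_iff]
    intro u
    obtain ⟨W, j, V, w, hP, hw⟩ := exists_good f U.unop u
    refine ⟨W, j, w, (hgood W V hP).1 ?_, hw⟩
    exact (NatTrans.naturality_apply η.hom j.op x).trans
      ((congrArg _ hxy).trans (NatTrans.naturality_apply η.hom j.op y).symm)
  have hsurj : Sheaf.IsLocallySurjective η := by
    constructor
    intro U s
    rw [mem_topology_iff]
    intro u
    obtain ⟨W, j, V, w, hP, hw⟩ := exists_good f U u
    obtain ⟨t, ht⟩ := (hgood W V hP).2 (_)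
    exact ⟨W, j, w, ⟨t, ht⟩, hw⟩
  haveI := hinj
  haveI := hsurj
  haveI : Mono η := Sheaf.mono_of_isLocallyInjective η
  haveI : Epi η := inferInstance
  exact isIso_of_mono_of_epi η

end Groth.EtaleBase.BCZero
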