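import Groth.Agent.EtaleBase.BCZero.Basic
import Groth.Agent.EtaleBase.BCZero.Connected

/-!
Base change in degree zero along flat morphisms, locally of finite presentation, with geometrically
reduced fibres.
-/

set_option autoImplicit false
set_option linter.style.haveILetI false

universe u

open CategoryTheory CategoryTheory.Limits AlgebraicGeometry Opposite
open scoped TensorProduct

namespace Groth.EtaleBase.BCZero

/-- The affine pieces of a morphism with geometrically reduced fibres. -/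
theorem isReduced_tensor_appLE {X S : Scheme.{u}} (f : X ⟶ S)
    (hred : ∀ (K : Type u) [Field K] (k : Spec (CommRingCat.of K) ⟶ S), IsReduced (pullback f k))
    {U : S.Opens} (hU : IsAffineOpen U) {V : X.Opens} (hV : IsAffineOpen V) (e : V ≤ f ⁻¹ᵁ U)
    (K : Type u) [Field K] [Algebra Γ(S, U) K] :
    letI := (f.appLE U V e).hom.toAlgebra
    _root_.IsReduced (Γ(X, V) ⊗[Γ(S, U)] K) := by
  letI := (f.appLE U V e).hom.toAlgebra
  let a := Spec.map (CommRingCat.ofHom (algebraMap Γ(S, U) Γ(X, V)))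
  let k := Spec.map (CommRingCat.ofHom (algebraMap Γ(S, U) K))
  have ha : a ≫ hU.fromSpec = hV.fromSpec ≫ f := IsAffineOpen.SpecMap_appLE_fromSpec f hU hV e
  let k' := k ≫ hU.fromSpec
  haveI := hred K k'
  let i₁ : pullback a k ≅ pullback (hV.fromSpec ≫ f) k' :=
    (IsPullback.of_bot (h₁₁ := pullback.snd (hV.fromSpec ≫ f) k')
      (v₁₁ := pullback.fst (hV.fromSpec ≫ f) k') (v₁₂ := k) (h₂₁ := a) (v₂₁ := 𝟙 _) (v₂₂ := hU.fromSpec)
      (h₃₁ := hV.fromSpec ≫ f)
      (by rw [Category.comp_id]; exact (IsPullback.of_hasPullback (hV.fromSpec ≫ f) k').flip)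
      ((cancel_mono hU.fromSpec).1 (by
        simp only [Category.assoc]
        rw [ha]
        exact pullback.condition.symm))
      (IsPullback.of_vert_isIso_mono ⟨by rw [Category.id_comp]; exact ha⟩)).flip.isoPullback.symm
  haveI : IsReduced (pullback hV.fromSpec (pullback.fst f k')) :=
    isReduced_of_isOpenImmersion (pullback.snd hV.fromSpec (pullback.fst f k'))
  haveI : IsReduced (pullback (hV.fromSpec ≫ f) k') :=
    isReduced_of_isOpenImmersion (pullbackRightPullbackFstIso f k' hV.fromSpec).inv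
  haveI : IsReduced (pullback a k) := isReduced_of_isOpenImmersion i₁.hom
  haveI : IsReduced (Spec (CommRingCat.of (Γ(X, V) ⊗[Γ(S, U)] K))) :=
    isReduced_of_isOpenImmersion (pullbackSpecIso Γ(S, U) Γ(X, V) K).inv
  exact (affine_isReduced_iff (CommRingCat.of (Γ(X, V) ⊗[Γ(S, U)] K))).1 inferInstance

set_option maxHeartbeats 800000 in
/-- The connectedness hypothesis holds for geometrically reduced fibres. -/
theorem connected_of_geomReduced {X S : Scheme.{u}} (f : X ⟶ S) [Flat f] [LocallyOfFinitePresentation f]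
    (hred : ∀ (K : Type u) [Field K] (k : Spec (CommRingCat.of K) ⟶ S), IsReduced (pullback f k))
    (x : X) (RS : Type u) [CommRing RS] [IsLocalRing RS] [Algebra (S.presheaf.stalk (f.base x)) RS]
    [IsLocalHom (algebraMap (S.presheaf.stalk (f.base x)) RS)]
    [hRS : Hensel.IsStrictHenselization (S.presheaf.stalk (f.base x)) RS]
    (RX : Type u) [CommRing RX] [IsLocalRing RX] [Algebra (X.presheaf.stalk x) RX]
    [IsLocalHom (algebraMap (X.presheaf.stalk x) RX)] [Hensel.IsStrictHenselization (X.presheaf.stalk x) RX]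
    (ψ : RS →+* RX) [IsLocalHom ψ]
    (hψ : ψ.comp (algebraMap (S.presheaf.stalk (f.base x)) RS) =
      (algebraMap (X.presheaf.stalk x) RX).comp (f.stalkMap x).hom)
    (Ω : Type u) [Field Ω] (η : Spec (CommRingCat.of Ω) ⟶ Spec (CommRingCat.of RS)) :
    ConnectedSpace ↥(pullback (Spec.map (CommRingCat.ofHom ψ)) η) := by
  obtain ⟨_, ⟨U, hU, rfl⟩, hxU, -⟩ :=
    S.isBasis_affineOpens.exists_subset_of_mem_open (Set.mem_univ (f.base x)) isOpen_univ
  obtain ⟨_, ⟨V, hV, rfl⟩, hxV, hVU⟩ :=
    X.isBasis_affineOpens.exists_subset_of_mem_open (show x ∈ f ⁻¹ᵁ U from hxU) (f ⁻¹ᵁ U).2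
  let A := Γ(S, U)
  let B := Γ(X, V)
  let Bq := X.presheaf.stalk x
  let AP := S.presheaf.stalk (f.base x)
  letI : Algebra A B := (f.appLE U V hVU).hom.toAlgebra
  letI : Algebra B Bq := (X.presheaf.germ V x hxV).hom.toAlgebra
  haveI : IsLocalization.AtPrime Bq (hV.primeIdealOf ⟨x, hxV⟩).asIdeal := hV.isLocalization_stalk ⟨x, hxV⟩
  letI : Algebra A AP := (S.presheaf.germ U (f.base x) hxU).hom.toAlgebra
  haveI : IsLocalization.AtPrime AP (hU.primeIdealOf ⟨f.base x, hxU⟩).asIdeal :=
    hU.isLocalization_stalk ⟨f.base x, hxU⟩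
  letI : Algebra A Bq := ((algebraMap B Bq).comp (algebraMap A B)).toAlgebra
  haveI : IsScalarTower A B Bq := IsScalarTower.of_algebraMap_eq fun _ => rfl
  letI : Algebra A RS := ((algebraMap AP RS).comp (algebraMap A AP)).toAlgebra
  haveI : IsScalarTower A AP RS := IsScalarTower.of_algebraMap_eq fun _ => rfl
  letI : Algebra RS RX := ψ.toAlgebra
  letI : Algebra A RX := ((algebraMap RS RX).comp (algebraMap A RS)).toAlgebra
  haveI : IsScalarTower A RS RX := IsScalarTower.of_algebraMap_eq fun _ => rfl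
  haveI : IsScalarTower A Bq RX := IsScalarTower.of_algebraMap_eq fun a => by
    show ψ (algebraMap AP RS (S.presheaf.germ U (f.base x) hxU a)) =
      algebraMap Bq RX (X.presheaf.germ V x hxV (f.appLE U V hVU a))
    rw [← RingHom.comp_apply ψ, hψ, RingHom.comp_apply]
    congr 1
    refine (Scheme.Hom.germ_stalkMap_apply f U x hxU a).trans ?_
    exact (X.presheaf.germ_res_apply (homOfLE hVU) x hxV _).symm
  haveI : Module.Flat A B := f.flat_appLE hU hV hVU
  haveI : Algebra.FinitePresentation A B :=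
    RingHom.finitePresentation_algebraMap.1 (f.finitePresentation_appLE hU hV hVU)
  obtain ⟨MS⟩ := Groth.Hensel1.hensModel_of_isStrictHenselization (R := AP) (S := RS)
  haveI := Groth.EtaleDeep.IndEt.weaklyEtale (Groth.HensPair.isIndEtale_of_hensModel MS)
  haveI : Algebra.WeaklyEtale A AP :=
    Groth.FlatMor2.weaklyEtale_localization (hU.primeIdealOf ⟨f.base x, hxU⟩).asIdeal.primeCompl
  haveI : Algebra.WeaklyEtale A RS := Algebra.WeaklyEtale.trans A AP RS
  haveI : Module.Flat RS RX := flat_map_strictHens (f.stalkMap x).hom (Flat.stalkMap f x) RS RX ψ hψ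
  haveI : IsLocalHom (algebraMap RS RX) := ‹IsLocalHom ψ›
  haveI := hRS.henselian
  haveI : IsSepClosed (IsLocalRing.ResidueField RS) := hRS.isSepClosure.sep_closed
  obtain ⟨χ, rfl⟩ := Spec.map_surjective η
  letI : Algebra RS Ω := χ.hom.toAlgebra
  haveI : ConnectedSpace (PrimeSpectrum (Ω ⊗[RS] RX)) :=
    connectedSpace_tensor (A := A) (B := B) (Bq := Bq) (fun K _ _ => isReduced_tensor_appLE f hred hU hV hVU K)
      (hV.primeIdealOf ⟨x, hxV⟩).asIdeal.primeCompl Ω
  have h1 : ConnectedSpace (PrimeSpectrum (RX ⊗[RS] Ω)) := by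
    let h := PrimeSpectrum.homeomorphOfRingEquiv (Algebra.TensorProduct.comm RS Ω RX).toRingEquiv
    exact h.surjective.connectedSpace h.continuous
  let h2 := (pullbackSpecIso RS RX Ω).inv.homeomorph
  haveI : ConnectedSpace ↥(Spec (CommRingCat.of (RX ⊗[RS] Ω))) := h1
  exact h2.surjective.connectedSpace h2.continuous

/-- Base change in degree zero. -/
theorem isIso_baseChange0_of_geomReduced {X S Y T : Scheme.{u}} (f : X ⟶ S) [Flat f]
    [LocallyOfFinitePresentation f]
    (hred : ∀ (K : Type u) [Field K] (k : Spec (CommRingCat.of K) ⟶ S), IsReduced (pullback f k))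
    (g : T ⟶ S) [QuasiCompact g] [QuasiSeparated g] (h : Y ⟶ X) (e : Y ⟶ T) (c : IsPullback e h g f)
    (F : EtCoh.Ab T) : IsIso (EtCoh.baseChange0 g f h e c.w F) :=
  isIso_baseChange0_of_connected f g h e c F fun x RS _ _ _ _ _ RX _ _ _ _ _ ψ _ hψ Ω _ _ η =>
    connected_of_geomReduced f hred x RS RX ψ hψ Ω η

end Groth.EtaleBase.BCZero
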